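import Cfsg.Agent.Lib.Spor.JFourType.FromCover.Det
import Cfsg.Agent.Lib.Char.FeitBlichfeldt

/-!
# The perfect triple cover inside an extension of the pair stabilizer

`K` maps onto the pair stabilizer with a kernel of order three centralized by the preimage `M` of the simple
subgroup, and `M` is perfect. Then the Sylow three-subgroup of `M` is nonabelian and an outer element inverts the
kernel.
-/

set_option autoImplicit false
set_option linter.style.haveILetI false

namespace CfsgLib.Spor.JFourType.FromCover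

open Cfsg Subgroup
open scoped commutatorElement

universe u

theorem closure_pair_card {A : Type*} [Group A] [Finite A] {a b : A} (ha : a ^ 3 = 1) (hb : b ^ 3 = 1)
    (hab : a * b = b * a) (ha1 : a ≠ 1) (hba : b ∉ zpowers a) : Nat.card ↥(closure ({a, b} : Set A)) = 9 := by
  classical
  haveI : Fact (Nat.Prime 3) := ⟨Nat.prime_three⟩
  set S := closure ({a, b} : Set A)
  have hle : Nat.card ↥S ≤ 9 := by
    have hsub : (S : Set A) ⊆ ((threeExps.toFinset.image fun e => a ^ e.1 * b ^ e.2 : Finset A) : Set A) := by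
      intro v hv
      obtain ⟨e, he, rfl⟩ := mem_closure_three hab ha hb hv
      exact Finset.mem_coe.2 (Finset.mem_image.2 ⟨e, List.mem_toFinset.2 he, rfl⟩)
    calc Nat.card ↥S = (S : Set A).ncard := (Nat.card_coe_set_eq _)
      _ ≤ ((threeExps.toFinset.image fun e => a ^ e.1 * b ^ e.2 : Finset A) : Set A).ncard :=
          Set.ncard_le_ncard hsub (Finset.finite_toSet _)
      _ ≤ threeExps.toFinset.card := by rw [Set.ncard_coe_finset]; exact Finset.card_image_le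
      _ ≤ 9 := by decide
  have hP : IsPGroup 3 ↥S := fun v => ⟨1, by
    obtain ⟨e, -, he⟩ := mem_closure_three hab ha hb v.2
    refine Subtype.ext ?_
    rw [pow_one, SubgroupClass.coe_pow, he, OneMemClass.coe_one,
      ((show Commute a b from hab).pow_pow e.1 e.2).mul_pow, ← pow_mul, ← pow_mul, mul_comm e.1, mul_comm e.2,
      pow_mul, pow_mul, ha, hb, one_pow, one_pow, one_mul]⟩
  obtain ⟨k, hk⟩ := IsPGroup.iff_card.1 hP
  have hza : Nat.card ↥(zpowers a) = 3 := by rw [Nat.card_zpowers]; exact orderOf_eq_prime ha ha1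
  have hlt : zpowers a < S := lt_of_le_of_ne (zpowers_le.2 (subset_closure (by simp)))
    fun e => hba (e ▸ subset_closure (by simp))
  have hgt : 3 < Nat.card ↥S := by
    rw [← hza]
    by_contra h
    exact hlt.ne (eq_of_le_of_card_ge hlt.le (not_lt.1 h))
  rw [hk] at hle hgt ⊢
  have h2 : k = 2 := by
    have h3 : k ≤ 2 := (Nat.pow_le_pow_iff_right (show 1 < 3 by norm_num)).1 hle
    interval_cases k <;> simp_all
  rw [h2]; norm_num

/-- The elements used on the binary space. -/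
theorem cover_elements {K : Type u} [Group K] [Finite K] (M : Subgroup K) (π : K →* ↥Gam)
    (hπ : Function.Surjective π) (hker : Nat.card ↥π.ker = 3) (hM : M = J22.comap π)
    (hc : ∀ m ∈ M, ∀ k ∈ π.ker, m * k = k * m) (hperf : ⁅M, M⁆ = M) :
    ∃ p x y g d : K, p ∈ π.ker ∧ p ≠ 1 ∧ p ^ 3 = 1 ∧ x ∈ M ∧ y ∈ M ∧ g ∈ M ∧ x ^ 3 = 1 ∧
      y * x * y⁻¹ = x * p ∧ orderOf g = 11 ∧ d * p * d⁻¹ = p⁻¹ ∧
      (∀ L : Subgroup K, L ≤ M → (∀ m ∈ M, ∀ l ∈ L, m * l * m⁻¹ ∈ L) → g ∈ L → p ∈ L) := by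
  haveI : Fact (Nat.Prime 3) := ⟨Nat.prime_three⟩
  haveI : Fact (Nat.Prime 11) := ⟨by norm_num⟩
  obtain ⟨a, b, n, d, haJ, hbJ, hnJ, ha3, hb3, hab, ha1, hba, hna, hnb, hda, hdb⟩ := det_data
  obtain ⟨x, rfl⟩ := hπ a
  obtain ⟨y, rfl⟩ := hπ b
  obtain ⟨n', rfl⟩ := hπ n
  obtain ⟨d', rfl⟩ := hπ d
  have memM : ∀ {k : K}, k ∈ M ↔ π k ∈ J22 := fun {k} => by rw [hM, mem_comap]
  have kerM : π.ker ≤ M := fun k hk => memM.2 (by rw [MonoidHom.mem_ker.1 hk]; exact one_mem _)
  have hxM := memM.2 haJ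
  have hyM := memM.2 hbJ
  have hnM := memM.2 hnJ
  have hk3 : ∀ k ∈ π.ker, k ^ 3 = 1 := fun k hk => by
    have := pow_card_eq_one' (G := ↥π.ker) (x := ⟨k, hk⟩)
    rw [hker] at this
    exact congrArg Subtype.val this
  have inker : ∀ {s t : K}, π s = π t → s⁻¹ * t ∈ π.ker := fun {s t} e =>
    MonoidHom.mem_ker.2 (by rw [map_mul, map_inv, e, inv_mul_cancel])
  obtain ⟨w, hw, hyx⟩ : ∃ w ∈ π.ker, y * x * y⁻¹ = x * w :=
    ⟨x⁻¹ * (y * x * y⁻¹), inker (by rw [map_mul, map_mul, map_inv, ← hab, mul_inv_cancel_right]),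
      (mul_inv_cancel_left _ _).symm⟩
  -- `x` has order three
  obtain ⟨u, hu, hnx⟩ : ∃ u ∈ π.ker, n' * x * n'⁻¹ = y * u :=
    ⟨y⁻¹ * (n' * x * n'⁻¹), inker (by rw [map_mul, map_mul, map_inv, hna]), (mul_inv_cancel_left _ _).symm⟩
  obtain ⟨v, hv, hny⟩ : ∃ v ∈ π.ker, n' * y * n'⁻¹ = x⁻¹ * v :=
    ⟨x * (n' * y * n'⁻¹), MonoidHom.mem_ker.2 (by rw [map_mul, map_mul, map_mul, map_inv, hnb, mul_inv_cancel]),
      (inv_mul_cancel_left _ _).symm⟩
  have hx3ker : x ^ 3 ∈ π.ker := MonoidHom.mem_ker.2 (by rw [map_pow, ha3])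
  have hcu : n' * u * n'⁻¹ = u := by rw [hc n' hnM u hu, mul_inv_cancel_right]
  have hn2 : (n' * n') * x * (n' * n')⁻¹ = x⁻¹ * (v * u) := by
    calc (n' * n') * x * (n' * n')⁻¹ = n' * (n' * x * n'⁻¹) * n'⁻¹ := by group
      _ = (n' * y * n'⁻¹) * (n' * u * n'⁻¹) := by rw [hnx]; group
      _ = _ := by rw [hny, hcu, mul_assoc]
  have hx3 : x ^ 3 = 1 := by
    have h1 : ((n' * n') * x * (n' * n')⁻¹) ^ 3 = x ^ 3 := by
      rw [conj_pow, hc _ (mul_mem hnM hnM) _ hx3ker, mul_inv_cancel_right]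
    have hcomm : Commute x⁻¹ (v * u) := (show Commute x (v * u) from hc x hxM _ (mul_mem hv hu)).inv_left
    rw [hn2, hcomm.mul_pow, hk3 _ (mul_mem hv hu), mul_one, inv_pow, inv_eq_iff_mul_eq_one, ← pow_two] at h1
    have h2 := hk3 _ hx3ker
    rw [pow_succ, h1, one_mul] at h2
    exact h2
  -- the kernel is generated by the commutator
  have hw1 : w ≠ 1 := by
    rintro rfl
    rw [mul_one] at hyx
    have hxy : y * x = x * y := mul_inv_eq_iff_eq_mul.1 hyx
    set T : Set K := {x, y} ∪ (π.ker : Set K)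
    have hTM : T ⊆ M := by
      rintro k ((rfl | rfl) | hk)
      exacts [hxM, hyM, kerM hk]
    have hT : ∀ s ∈ T, ∀ t ∈ T, s * t = t * s := by
      rintro s ((rfl | rfl) | hs) t ((rfl | rfl) | ht)
      exacts [rfl, hxy.symm, hc _ hxM _ ht, hxy, rfl, hc _ hyM _ ht, (hc _ hxM _ hs).symm, (hc _ hyM _ hs).symm,
        hc _ (kerM hs) _ ht]
    have hcl : closure T ≤ centralizer (closure T : Set K) := by
      rw [closure_le]
      intro s hs
      rw [SetLike.mem_coe, mem_centralizer_iff]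
      intro t ht
      induction ht using closure_induction with
      | mem t ht => exact hT t ht s hs
      | one => rw [one_mul, mul_one]
      | mul a b _ _ ea eb => exact ((show Commute a s from ea).mul_left (show Commute b s from eb)).eq
      | inv a _ ea => exact ((show Commute a s from ea).inv_left).eq
    let S0 : Subgroup K := (closure ({π x, π y} : Set ↥Gam)).comap π
    have hS0 : S0 ≤ closure T := by
      intro k hk
      obtain ⟨e, -, he⟩ := mem_closure_three hab ha3 hb3 hk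
      rw [← map_pow, ← map_pow, ← map_mul] at he
      rw [show k = x ^ e.1 * y ^ e.2 * ((x ^ e.1 * y ^ e.2)⁻¹ * k) by group]
      exact mul_mem (mul_mem (pow_mem (subset_closure (.inl (.inl rfl))) _)
        (pow_mem (subset_closure (.inl (.inr rfl))) _)) (subset_closure (.inr (inker he.symm)))
    have hcardK : Nat.card K = 3 * 887040 := by
      rw [← π.ker.card_mul_index, hker, index_ker, Nat.card_congr (Equiv.subtypeUnivEquiv fun a => ?_), card_Gam]
      obtain ⟨k, rfl⟩ := hπ a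
      exact ⟨k, rfl⟩
    have hS0card : Nat.card ↥S0 = 27 := by
      have h1 := S0.card_mul_index
      have h2 := (closure ({π x, π y} : Set ↥Gam)).card_mul_index
      rw [closure_pair_card ha3 hb3 hab ha1 hba, card_Gam] at h2
      rw [index_comap_of_surjective _ hπ, hcardK] at h1
      rw [show (closure ({π x, π y} : Set ↥Gam)).index = 98560 by omega] at h1
      omega
    have hMcard : Nat.card ↥M = 1330560 := by
      have h1 := M.card_mul_index
      rw [hM, index_comap_of_surjective _ hπ, J22_index, hcardK] at h1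
      rw [hM]; omega
    have hS0M : S0 ≤ M := hS0.trans ((closure_le M).2 hTM)
    let P : Sylow 3 ↥M := Sylow.ofCard (S0.subgroupOf M) (by
      rw [Nat.card_congr (subgroupOfEquivOfLe hS0M).toEquiv, hS0card, hMcard,
        show 1330560 = 3 ^ 3 * 49280 by norm_num, Nat.factorization_mul (by norm_num) (by norm_num),
        Nat.Prime.factorization_pow Nat.prime_three, Finsupp.add_apply, Finsupp.single_eq_same,
        Nat.factorization_eq_zero_of_not_dvd (show ¬ 3 ∣ 49280 by norm_num)]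
      rfl)
    have hP := CfsgLib.Char.FeitBlichfeldt.inf_center_eq_bot P (fun s hs t ht => Subtype.ext
      (mem_centralizer_iff.1 (hcl (hS0 ht)) (s : K) (hS0 hs))) (by
        rw [← map_injective M.subtype_injective |>.eq_iff, _root_.commutator_def, map_commutator]
        · simpa [← MonoidHom.range_eq_map] using hperf
      )
    haveI : Nontrivial ↥π.ker := Finite.one_lt_card_iff_nontrivial.1 (by omega)
    obtain ⟨⟨k, hk⟩, hk1⟩ := exists_ne (1 : ↥π.ker)
    refine hk1 (Subtype.ext ?_)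
    have hkP : (⟨k, kerM hk⟩ : ↥M) ∈ (P : Subgroup ↥M) ⊓ center ↥M :=
      ⟨show π k ∈ Subgroup.closure _ by rw [MonoidHom.mem_ker.1 hk]; exact one_mem _,
        mem_center_iff.2 fun m => Subtype.ext (hc m m.2 k hk)⟩
    rw [hP, mem_bot] at hkP
    exact congrArg (fun z : ↥M => (z : K)) hkP
  -- an outer element inverts it
  obtain ⟨u', hu', hdx⟩ : ∃ u' ∈ π.ker, d' * x * d'⁻¹ = x * u' :=
    ⟨x⁻¹ * (d' * x * d'⁻¹), inker (by rw [map_mul, map_mul, map_inv, hda]), (mul_inv_cancel_left _ _).symm⟩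
  obtain ⟨v', hv', hdy⟩ : ∃ v' ∈ π.ker, d' * y * d'⁻¹ = y⁻¹ * v' :=
    ⟨y * (d' * y * d'⁻¹), MonoidHom.mem_ker.2 (by rw [map_mul, map_mul, map_mul, map_inv, hdb, mul_inv_cancel]),
      (inv_mul_cancel_left _ _).symm⟩
  have hyx' : y⁻¹ * x * y = x * w⁻¹ := by
    have e : y⁻¹ * x * y * w = x := by
      rw [mul_assoc _ y w, hc y hyM w hw, ← mul_assoc, mul_assoc y⁻¹ x w, ← hyx]; group
    exact eq_mul_inv_iff_mul_eq.2 e
  have hdw : d' * w * d'⁻¹ = w⁻¹ := by
    have e1 : d' * (y * x * y⁻¹) * d'⁻¹ = x * u' * w⁻¹ := by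
      rw [show d' * (y * x * y⁻¹) * d'⁻¹ = (d' * y * d'⁻¹) * (d' * x * d'⁻¹) * (d' * y * d'⁻¹)⁻¹ by group,
        hdy, hdx]
      have hxu : x * u' ∈ M := mul_mem hxM (kerM hu')
      calc y⁻¹ * v' * (x * u') * (y⁻¹ * v')⁻¹ = y⁻¹ * (v' * (x * u') * v'⁻¹) * y := by group
        _ = y⁻¹ * x * (u' * y) := by rw [← hc _ hxu _ hv', mul_inv_cancel_right]; group
        _ = y⁻¹ * x * y * u' := by rw [← hc y hyM u' hu']; group
        _ = x * (w⁻¹ * u') := by rw [hyx', mul_assoc]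
        _ = x * (u' * w⁻¹) := by rw [hc _ (kerM (inv_mem hw)) _ hu']
        _ = _ := (mul_assoc _ _ _).symm
    rw [hyx, show d' * (x * w) * d'⁻¹ = (d' * x * d'⁻¹) * (d' * w * d'⁻¹) by group, hdx] at e1
    exact mul_left_cancel e1
  -- an element of order eleven
  obtain ⟨⟨g, hgM⟩, hg⟩ := exists_prime_orderOf_dvd_card' (G := ↥M) 11 (by
    refine dvd_trans (show 11 ∣ Nat.card ↥J22 by rw [card_J22]; norm_num) ?_
    refine card_dvd_of_surjective ((π.comp M.subtype).codRestrict J22 fun m => memM.1 m.2) fun j => ?_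
    obtain ⟨k, hk⟩ := hπ j.1
    exact ⟨⟨k, memM.2 (hk ▸ j.2)⟩, Subtype.ext hk⟩)
  rw [← Subgroup.orderOf_coe] at hg
  refine ⟨w, x, y, g, d', hw, hw1, hk3 w hw, hxM, hyM, hgM, hx3, hyx, hg, hdw, fun L hLM hLn hgL => ?_⟩
  have hgk : π g ≠ 1 := fun h => by
    have h11 := orderOf_dvd_of_pow_eq_one (hk3 g (MonoidHom.mem_ker.2 h))
    rw [show orderOf g = 11 from hg] at h11
    norm_num at h11
  haveI := simple_J22
  set I := (L.map π).subgroupOf J22
  have hIn : I.Normal := ⟨fun i hi j => by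
    obtain ⟨l, hl, hl'⟩ := hi
    obtain ⟨m, hm⟩ := hπ j.1
    refine ⟨m * l * m⁻¹, hLn m (memM.2 (hm ▸ j.2)) l hl, ?_⟩
    change π l = (i : ↥Gam) at hl'
    rw [map_mul, map_mul, map_inv, hm, hl']
    rfl⟩
  have hItop : I = ⊤ := (hIn.eq_bot_or_eq_top).resolve_left fun h => hgk (congrArg Subtype.val
    (eq_bot_iff_forall _ |>.1 h ⟨π g, memM.1 hgM⟩ (mem_subgroupOf.2 ⟨g, hgL, rfl⟩)))
  have hdec : ∀ m ∈ M, ∃ l ∈ L, ∃ k ∈ π.ker, m = l * k := fun m hm => by
    obtain ⟨l, hl, e⟩ := mem_subgroupOf.1 (hItop ▸ mem_top (⟨π m, memM.1 hm⟩ : ↥J22) : (_ : ↥J22) ∈ I)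
    exact ⟨l, hl, l⁻¹ * m, inker e, (mul_inv_cancel_left _ _).symm⟩
  have hle : M ≤ L := by
    nth_rewrite 1 [← hperf]
    rw [commutator_le]
    intro s hs t ht
    obtain ⟨l, hl, k, hk, rfl⟩ := hdec s hs
    obtain ⟨l', hl', k', hk', rfl⟩ := hdec t ht
    rw [show ⁅l * k, l' * k'⁆ = ⁅l, l'⁆ by
      have h1 : ∀ t ∈ M, ⁅l * k, t⁆ = ⁅l, t⁆ := fun t ht => by
        simp only [commutatorElement_def, mul_inv_rev]
        calc l * k * t * (k⁻¹ * l⁻¹) * t⁻¹ = l * (k * t) * k⁻¹ * l⁻¹ * t⁻¹ := by group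
          _ = l * (t * k) * k⁻¹ * l⁻¹ * t⁻¹ := by rw [hc t ht k hk]
          _ = _ := by group
      rw [h1 _ ht]
      simp only [commutatorElement_def, mul_inv_rev]
      calc l * (l' * k') * l⁻¹ * (k'⁻¹ * l'⁻¹) = l * l' * (k' * l⁻¹) * k'⁻¹ * l'⁻¹ := by group
        _ = l * l' * (l⁻¹ * k') * k'⁻¹ * l'⁻¹ := by rw [hc l⁻¹ (inv_mem (hLM hl)) k' hk']
        _ = _ := by group]
    exact mul_mem (mul_mem (mul_mem hl hl') (inv_mem hl)) (inv_mem hl')
  exact hle (kerM hw)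

end CfsgLib.Spor.JFourType.FromCover
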