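import Cfsg.Agent.Lib.Spor.JFourType.Facts22
import Cfsg.Agent.Lib.Spor.JFourType.Facts22.FiveSeven

/-!
# A pair of commuting elements of order three of the pair stabilizer and an element of determinant `-1` on them
-/

set_option autoImplicit false
set_option maxRecDepth 20000

namespace CfsgLib.Spor.JFourType.FromCover

open Cfsg Subgroup

/-- An outer element fixing `threeA` and inverting `threeB`. -/
def threeD : ℕ := 0x58c5111e9649cba41433d62868677

theorem threeD_ok : isM24Code threeD = true ∧ permFn threeD 23 = 0 ∧ permFn threeD 0 = 23 ∧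
    twine threeD threeA threeA = true ∧ twine threeD threeB (powCode threeB 2) = true := by decide +kernel

/-- The data on the Sylow three-subgroup. -/
theorem det_data : ∃ a b n d : ↥Gam, a ∈ J22 ∧ b ∈ J22 ∧ n ∈ J22 ∧ a ^ 3 = 1 ∧ b ^ 3 = 1 ∧ a * b = b * a ∧
    a ≠ 1 ∧ b ∉ zpowers a ∧
    n * a * n⁻¹ = b ∧ n * b * n⁻¹ = a⁻¹ ∧ d * a * d⁻¹ = a ∧ d * b * d⁻¹ = b⁻¹ := by
  obtain ⟨hA', hB', hN', -, -, -, -, -, -, -, hne, tN1, tN2⟩ := three_ok
  have hA := m22_sound hA'
  have hB := m22_sound hB'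
  have hN := m22_sound hN'
  obtain ⟨hM, h23, h0, tD1, tD2⟩ := threeD_ok
  obtain ⟨hDc, hDG, -⟩ := outer_code hM h23 h0
  have ha3 : tA ^ 3 = 1 := by rw [← order_tA, pow_orderOf_eq_one]
  have hb3 : tB ^ 3 = 1 := by rw [← order_tB, pow_orderOf_eq_one]
  have hinv : ∀ {w : ↥Gam}, w ^ 3 = 1 → w ^ 2 = w⁻¹ := fun {w} hw => by
    rw [eq_inv_iff_mul_eq_one, ← pow_succ, hw]
  refine ⟨tA, tB, gm hN, ⟨permOf threeD, hDG⟩, gm_mem _, gm_mem _, gm_mem _, ha3, hb3, comm_tAB,
    fun h => ?_, fun hb => ?_, conj_gm_eq hN hA hB.1 rfl tN1, ?_, ?_, ?_⟩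
  · have h1 := order_tA
    rw [h, orderOf_one] at h1
    omega
  · obtain ⟨i, hi, e⟩ := Finset.mem_image.1 (mem_zpowers_iff_mem_range_orderOf.1 hb)
    rw [order_tA, Finset.mem_range] at hi
    have := List.all_eq_true.1 hne i (List.mem_range.2 hi)
    rw [bne_iff_ne] at this
    refine this (permOf_inj_normal (permOf_powCode hA.1 i).2 (permOf_powCode hB.1 1).2
      (permMulCode_idPacked_powCode hA.1 i) (permMulCode_idPacked_powCode hB.1 1) ?_)
    rw [(permOf_powCode hA.1 i).1, (permOf_powCode hB.1 1).1, pow_one]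
    simpa [tA, tB, gm] using congrArg Subtype.val e
  · refine (conj_gm_eq hN hB (permOf_powCode hA.1 2).2 (y := tA ^ 2) ?_ tN2).trans (hinv ha3)
    rw [SubgroupClass.coe_pow, (permOf_powCode hA.1 2).1]; rfl
  · exact Subtype.ext (conj_eq_of_twine hDc hA.1 hA.1 tD1)
  · rw [← hinv hb3]
    refine Subtype.ext ((conj_eq_of_twine hDc hB.1 (permOf_powCode hB.1 2).2 tD2).trans ?_)
    rw [SubgroupClass.coe_pow, (permOf_powCode hB.1 2).1]; rfl

end CfsgLib.Spor.JFourType.FromCover
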