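import Mathlib

/-!
# A central element of order three acting on a binary space of dimension twelve

`p` is central in `M`, `x` has order three, `y` carries `x` to `x * p` and `g` has order eleven. The fixed point
set of `p` on the part where `1 + p + p ^ 2` vanishes is split by the three subgroups of order three of `⟨x, p⟩`
other than `⟨p⟩`, so that part has dimension a multiple of six, and `g` forces it to be everything.
-/

set_option autoImplicit false

namespace CfsgLib.Spor.JFourType.FromCover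

universe u v

variable {V : Type v} [AddCommGroup V]

/-- The vectors annihilated by `1 + e + e ^ 2`. -/
def kerOnePlus (e : AddMonoid.End V) : AddSubgroup V where
  carrier := {w | w + e w + e (e w) = 0}
  zero_mem' := by simp
  add_mem' := by
    intro a b ha hb
    simp only [Set.mem_setOf_eq, map_add] at *
    rw [← add_zero (0 : V)]
    nth_rewrite 1 [← ha]
    nth_rewrite 1 [← hb]
    abel
  neg_mem' := by
    intro a ha
    simp only [Set.mem_setOf_eq, map_neg] at *
    rw [← neg_zero (G := V), ← ha]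
    abel

theorem mem_kerOnePlus {e : AddMonoid.End V} {w : V} : w ∈ kerOnePlus e ↔ w + e w + e (e w) = 0 := Iff.rfl

variable {K : Type u} [Group K]

theorem card_two_pow [Finite V] (two : ∀ w : V, w + w = 0) (H : AddSubgroup V) : ∃ k : ℕ, Nat.card H = 2 ^ k := by
  haveI : Fact (Nat.Prime 2) := ⟨Nat.prime_two⟩
  refine (IsPGroup.iff_card (G := Multiplicative H)).1 fun w => ⟨1, ?_⟩
  exact congrArg Multiplicative.ofAdd (Subtype.ext (by simpa [two_nsmul] using two (Multiplicative.toAdd w : H).1) :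
    (2 ^ 1) • (Multiplicative.toAdd w : H) = 0)

/-- The action of `K` on an invariant set. -/
abbrev setAction (φ : K →* AddMonoid.End V) (U : Set V) (H : Subgroup K) (h : ∀ m ∈ H, ∀ u ∈ U, φ m u ∈ U) :
    MulAction ↥H ↥U where
  smul m u := ⟨φ m u.1, h m m.2 u.1 u.2⟩
  one_smul u := Subtype.ext (show φ 1 u.1 = u.1 by rw [map_one]; rfl)
  mul_smul a b u := Subtype.ext (show φ ((a : K) * b) u.1 = φ a (φ b u.1) by rw [map_mul]; rfl)

variable [Finite K] [Finite V]

theorem fixed_eq_zero (two : ∀ w : V, w + w = 0) (card : Nat.card V = 2 ^ 12) (φ : K →* AddMonoid.End V)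
    (inj : ∀ k, φ k = 1 → k = 1) (M : Subgroup K) {p x y g : K} (hpM : p ∈ M) (hxM : x ∈ M) (hyM : y ∈ M)
    (hgM : g ∈ M) (hp3 : p ^ 3 = 1) (hp : p ≠ 1) (hx3 : x ^ 3 = 1) (pc : ∀ m ∈ M, m * p = p * m)
    (hyx : y * x * y⁻¹ = x * p) (hg : orderOf g = 11)
    (hM : ∀ L : Subgroup K, L ≤ M → (∀ m ∈ M, ∀ l ∈ L, m * l * m⁻¹ ∈ L) → g ∈ L → p ∈ L) :
    ∀ w : V, φ p w = w → w = 0 := by
  classical
  have hmul : ∀ (a b : K) (w : V), φ (a * b) w = φ a (φ b w) := fun a b w => by rw [map_mul]; rfl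
  have hone : ∀ w : V, φ 1 w = w := fun w => by rw [map_one]; rfl
  set U : AddSubgroup V := kerOnePlus (φ p) with hU
  have hp3' : ∀ w, φ p (φ p (φ p w)) = w := fun w => by
    rw [← hmul, ← hmul, show p * p * p = p ^ 3 by rw [pow_succ, pow_two], hp3, hone]
  have hUM : ∀ m ∈ M, ∀ w ∈ U, φ m w ∈ U := fun m hm w hw => by
    rw [hU, mem_kerOnePlus] at hw ⊢
    have hc : ∀ v, φ p (φ m v) = φ m (φ p v) := fun v => by rw [← hmul, ← hmul, pc m hm]
    rw [hc, hc, ← map_add, ← map_add, hw, map_zero]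
  -- `V` is the sum of the fixed points and `U`
  let e : V → V := fun w => w + φ p w + φ p (φ p w)
  have he_fix : ∀ w, φ p (e w) = e w := fun w => by
    simp only [e, map_add, hp3']
    abel
  have he_of_fix : ∀ w, φ p w = w → e w = w := fun w h => by
    simp only [e, h]
    rw [two, zero_add]
  -- `U` is not zero
  have hUne : U ≠ ⊥ := fun h => hp (inj p (AddMonoidHom.ext fun w => by
    have h1 : w + e w ∈ U := by
      rw [hU, mem_kerOnePlus]
      rw [show φ p (w + e w) = φ p w + e w by rw [map_add, he_fix]]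
      rw [show φ p (φ p w + e w) = φ p (φ p w) + e w by rw [map_add, he_fix]]
      calc w + e w + (φ p w + e w) + (φ p (φ p w) + e w) = (e w + e w) + (e w + e w) := by
            simp only [e]; abel
        _ = 0 := by rw [two (e w), add_zero]
    rw [h, AddSubgroup.mem_bot] at h1
    have h2 : e w = w := by
      calc e w = w + (w + e w) := by rw [← add_assoc, two, zero_add]
        _ = w := by rw [h1, add_zero]
    calc φ p w = φ p (e w) := by rw [h2]
      _ = e w := he_fix w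
      _ = w := h2))
  -- the three parts of `U`
  have hxp : x * p = p * x := pc x hxM
  let h : ℕ → K := fun i => x * p ^ i
  have hh3 : ∀ i, h i * h i * h i = 1 := fun i => by
    have hc : Commute x (p ^ i) := (show Commute x p from hxp).pow_right i
    rw [show h i * h i * h i = (x * p ^ i) ^ 3 by rw [pow_succ, pow_two], hc.mul_pow, hx3, one_mul, ← pow_mul,
      mul_comm, pow_mul, hp3, one_pow]
  let F : ℕ → Set V := fun i => {w | w ∈ U ∧ φ (h i) w = w}
  let f : ℕ → V → V := fun i w => w + φ (h i) w + φ (h i) (φ (h i) w)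
  have hhM : ∀ i, h i ∈ M := fun i => M.mul_mem hxM (M.pow_mem hpM i)
  have hfF : ∀ i, ∀ w ∈ U, f i w ∈ F i := fun i w hw => by
    refine ⟨U.add_mem (U.add_mem hw (hUM _ (hhM i) _ hw)) (hUM _ (hhM i) _ (hUM _ (hhM i) _ hw)), ?_⟩
    simp only [f, map_add]
    rw [show φ (h i) (φ (h i) (φ (h i) w)) = w by rw [← hmul, ← hmul, hh3, hone]]
    abel
  have hsum : ∀ w ∈ U, f 0 w + f 1 w + f 2 w = w := fun w hw => by
    rw [hU, mem_kerOnePlus] at hw
    have h0 : ∀ v, φ (h 0) v = φ x v := fun v => by simp [h]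
    have h1 : ∀ v, φ (h 1) v = φ x (φ p v) := fun v => by simp [h, hmul]
    have h2 : ∀ v, φ (h 2) v = φ x (φ p (φ p v)) := fun v => by simp [h, pow_two, hmul]
    have hc : ∀ v, φ p (φ x v) = φ x (φ p v) := fun v => by rw [← hmul, ← hmul, hxp]
    simp only [f, h0, h1, h2, hc, hp3']
    calc w + φ x w + φ x (φ x w) + (w + φ x (φ p w) + φ x (φ x (φ p (φ p w)))) +
          (w + φ x (φ p (φ p w)) + φ x (φ x (φ p w)))
        = (w + w) + w + φ x (w + φ p w + φ p (φ p w)) + φ x (φ x (w + φ p w + φ p (φ p w))) := by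
          simp only [map_add]; abel
      _ = w := by rw [hw, two, map_zero, map_zero, zero_add, add_zero, add_zero]
  have hzero : ∀ i j : ℕ, (p ^ i = p ^ j * p ∨ p ^ i = p ^ j * p * p) → ∀ w ∈ F j, f i w = 0 := by
    rintro i j hij w ⟨hwU, hwj⟩
    rw [hU, mem_kerOnePlus] at hwU
    have hj : ∀ v, φ p (φ (h j) v) = φ (h j) (φ p v) := fun v => by rw [← hmul, ← hmul, pc _ (hhM j)]
    rcases hij with hij | hij
    · have hi : ∀ v, φ (h i) v = φ (h j) (φ p v) := fun v => by
        rw [← hmul]; simp only [h, hij, mul_assoc]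
      simp only [f, hi, ← hj, hwj]
      exact hwU
    · have hi : ∀ v, φ (h i) v = φ (h j) (φ p (φ p v)) := fun v => by
        rw [← hmul, ← hmul]; simp only [h, hij, mul_assoc]
      simp only [f, hi, ← hj, hwj, hp3']
      rw [show w + φ p (φ p w) + φ p w = w + φ p w + φ p (φ p w) by abel]
      exact hwU
  have hid : ∀ i, ∀ w ∈ F i, f i w = w := fun i w hw => by
    simp only [f, hw.2]
    rw [two, zero_add]
  have hpow : ∀ i, p ^ (i + 3) = p ^ i := fun i => by rw [pow_add, hp3, mul_one]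
  let E : ↥U ≃ (↥(F 0) × ↥(F 1) × ↥(F 2)) :=
    { toFun := fun w => (⟨f 0 w, hfF 0 w w.2⟩, ⟨f 1 w, hfF 1 w w.2⟩, ⟨f 2 w, hfF 2 w w.2⟩)
      invFun := fun t => ⟨t.1 + t.2.1 + t.2.2, U.add_mem (U.add_mem t.1.2.1 t.2.1.2.1) t.2.2.2.1⟩
      left_inv := fun w => Subtype.ext (hsum w w.2)
      right_inv := fun t => by
        obtain ⟨⟨a, ha⟩, ⟨b, hb⟩, ⟨c, hc⟩⟩ := t
        have hadd : ∀ i (s t : V), f i (s + t) = f i s + f i t := fun i s t => by
          simp only [f, map_add]; abel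
        have q0 : p ^ 0 = p ^ 1 * p * p := by rw [pow_zero, pow_one, ← hp3, pow_succ, pow_two]
        have q0' : p ^ 0 = p ^ 2 * p := by rw [pow_zero, ← hp3, pow_succ]
        have q1 : p ^ 1 = p ^ 0 * p := by simp
        have q1' : p ^ 1 = p ^ 2 * p * p := by rw [← pow_succ, ← pow_succ, hpow 1]
        have q2 : p ^ 2 = p ^ 0 * p * p := by simp [pow_two]
        have q2' : p ^ 2 = p ^ 1 * p := pow_succ p 1
        refine Prod.ext (Subtype.ext ?_) (Prod.ext (Subtype.ext ?_) (Subtype.ext ?_))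
        · show f 0 (a + b + c) = a
          rw [hadd, hadd, hid 0 a ha, hzero 0 1 (.inr q0) b hb, hzero 0 2 (.inl q0') c hc, add_zero, add_zero]
        · show f 1 (a + b + c) = b
          rw [hadd, hadd, hid 1 b hb, hzero 1 0 (.inl q1) a ha, hzero 1 2 (.inr q1') c hc, zero_add, add_zero]
        · show f 2 (a + b + c) = c
          rw [hadd, hadd, hid 2 c hc, hzero 2 0 (.inr q2) a ha, hzero 2 1 (.inl q2') b hb, zero_add, zero_add] }
  have hsucc : ∀ i, Nat.card ↥(F i) = Nat.card ↥(F (i + 1)) := fun i => by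
    have hconj : h (i + 1) * y = y * h i := by
      show x * p ^ (i + 1) * y = y * (x * p ^ i)
      rw [show y * (x * p ^ i) = y * x * y⁻¹ * (y * p ^ i) by group, hyx,
        ((show Commute y p from pc y hyM).pow_right i).eq, pow_succ']
      group
    have hyi : y⁻¹ * h (i + 1) = h i * y⁻¹ := by
      rw [eq_mul_inv_iff_mul_eq, mul_assoc, hconj, inv_mul_cancel_left]
    refine Nat.card_congr
      { toFun := fun w => ⟨φ y w, hUM y hyM _ w.2.1, ?_⟩
        invFun := fun w => ⟨φ y⁻¹ w, hUM _ (M.inv_mem hyM) _ w.2.1, ?_⟩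
        left_inv := fun w => Subtype.ext (show φ y⁻¹ (φ y w.1) = w.1 by rw [← hmul, inv_mul_cancel, hone])
        right_inv := fun w => Subtype.ext (show φ y (φ y⁻¹ w.1) = w.1 by rw [← hmul, mul_inv_cancel, hone]) }
    · rw [← hmul, hconj, hmul, w.2.2]
    · rw [← hmul, ← hyi, hmul, w.2.2]
  have hcard : Nat.card ↥U = Nat.card ↥(F 0) ^ 3 := by
    rw [Nat.card_congr E, Nat.card_prod, Nat.card_prod, ← hsucc 1, ← hsucc 0, pow_succ, pow_two, mul_assoc]
  -- `F 0` is a subgroup on which `p` is fixed point free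
  haveI : Fact (Nat.Prime 3) := ⟨Nat.prime_three⟩
  haveI : Fact (Nat.Prime 11) := ⟨by norm_num⟩
  have hF0p : ∀ m ∈ Subgroup.zpowers p, ∀ w ∈ F 0, φ m w ∈ F 0 := fun m hm w hw => by
    have hmM : m ∈ M := (Subgroup.zpowers_le.2 hpM) hm
    obtain ⟨k, rfl⟩ := hm
    refine ⟨hUM _ hmM w hw.1, ?_⟩
    have hc : h 0 * p ^ k = p ^ k * h 0 := (show Commute (h 0) p from pc _ (hhM 0)).zpow_right k
    rw [← hmul, hc, hmul, hw.2]
  letI := setAction φ (F 0) (Subgroup.zpowers p) hF0p
  have hP3 : IsPGroup 3 ↥(Subgroup.zpowers p) :=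
    IsPGroup.of_card (n := 1) (by rw [Nat.card_zpowers, pow_one]; exact orderOf_eq_prime hp3 hp)
  have hfix : Nat.card ↥(MulAction.fixedPoints ↥(Subgroup.zpowers p) ↥(F 0)) = 1 := by
    have h0 : (0 : V) ∈ F 0 := ⟨U.zero_mem, map_zero _⟩
    refine Nat.card_eq_one_iff_unique.2 ⟨⟨fun a b => ?_⟩, ⟨⟨0, h0⟩, fun m => Subtype.ext (map_zero _)⟩⟩
    suffices ∀ c : ↥(MulAction.fixedPoints ↥(Subgroup.zpowers p) ↥(F 0)), c.1.1 = 0 from
      Subtype.ext (Subtype.ext ((this a).trans (this b).symm))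
    intro c
    have hc : φ p c.1.1 = c.1.1 := congrArg Subtype.val (c.2 ⟨p, Subgroup.mem_zpowers p⟩)
    have h2 := c.1.2.1
    rw [hU, mem_kerOnePlus, hc, hc, two, zero_add] at h2
    exact h2
  have hmod := hP3.card_modEq_card_fixedPoints ↥(F 0)
  rw [hfix] at hmod
  obtain ⟨k, hk⟩ := card_two_pow two U
  have hdvd : 2 ^ k ∣ 2 ^ 12 := by rw [← hk, ← card]; exact AddSubgroup.card_addSubgroup_dvd_card U
  have hk12 : k ≤ 12 := (Nat.pow_dvd_pow_iff_le_right (by norm_num)).1 hdvd
  have hF0dvd : Nat.card ↥(F 0) ∣ 2 ^ 12 :=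
    (dvd_pow_self _ (by norm_num : (3 : ℕ) ≠ 0)).trans (hcard ▸ hk ▸ hdvd)
  obtain ⟨j, hj12, hj⟩ := (Nat.dvd_prime_pow Nat.prime_two).1 hF0dvd
  have hk3 : k = 3 * j := Nat.pow_right_injective le_rfl (show 2 ^ k = 2 ^ (3 * j) by
    rw [← hk, hcard, hj, ← pow_mul, mul_comm])
  have hj4 : j ≤ 4 := by omega
  rw [hj] at hmod
  have hk' : k = 6 ∨ k = 12 := by
    have hk0 : k ≠ 0 := fun h0 => hUne (AddSubgroup.card_eq_one.1 (by rw [hk, h0, pow_zero]))
    have : j ≠ 1 ∧ j ≠ 3 := by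
      refine ⟨?_, ?_⟩ <;> rintro rfl <;> exact absurd hmod (by decide)
    omega
  rcases hk' with rfl | rfl
  · exfalso
    have hgU : ∀ m ∈ Subgroup.zpowers g, ∀ w ∈ (U : Set V), φ m w ∈ (U : Set V) := fun m hm w hw =>
      hUM m ((Subgroup.zpowers_le.2 hgM) hm) w hw
    letI := setAction φ (U : Set V) (Subgroup.zpowers g) hgU
    have hP11 : IsPGroup 11 ↥(Subgroup.zpowers g) :=
      IsPGroup.of_card (n := 1) (by rw [Nat.card_zpowers, pow_one, hg])
    have hmod' := hP11.card_modEq_card_fixedPoints ↥(U : Set V)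
    set Fg := MulAction.fixedPoints ↥(Subgroup.zpowers g) ↥(U : Set V) with hFg
    let W : AddSubgroup V :=
      { carrier := {w | w ∈ U ∧ φ g w = w}
        zero_mem' := ⟨U.zero_mem, map_zero _⟩
        add_mem' := fun {a b} ha hb => ⟨U.add_mem ha.1 hb.1, by rw [map_add, ha.2, hb.2]⟩
        neg_mem' := fun {a} ha => ⟨U.neg_mem ha.1, by rw [map_neg, ha.2]⟩ }
    have hW : Nat.card ↥Fg = Nat.card ↥W := Nat.card_congr
      { toFun := fun c => ⟨c.1.1, c.1.2, congrArg Subtype.val (c.2 ⟨g, Subgroup.mem_zpowers g⟩)⟩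
        invFun := fun c => ⟨⟨c.1, c.2.1⟩, fun m => by
          refine MulAction.mem_stabilizer_iff.1 ?_
          have hg' : (⟨g, Subgroup.mem_zpowers g⟩ : ↥(Subgroup.zpowers g)) ∈
              MulAction.stabilizer ↥(Subgroup.zpowers g) (⟨c.1, c.2.1⟩ : ↥(U : Set V)) :=
            MulAction.mem_stabilizer_iff.2 (Subtype.ext c.2.2)
          obtain ⟨n, hn⟩ := m.2
          rw [show m = ⟨g, Subgroup.mem_zpowers g⟩ ^ n from Subtype.ext (by rw [SubgroupClass.coe_zpow]; exact hn.symm)]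
          exact Subgroup.zpow_mem _ hg' n⟩
        left_inv := fun _ => rfl
        right_inv := fun _ => rfl }
    obtain ⟨m, hm⟩ := card_two_pow two W
    have hWU : W ≤ U := fun w hw => hw.1
    have hm6 : m ≤ 6 := by
      refine (Nat.pow_dvd_pow_iff_le_right (show 1 < 2 by norm_num)).1 ?_
      rw [← hm, ← hk]
      exact AddSubgroup.card_dvd_of_le hWU
    rw [show Nat.card ↥(U : Set V) = 2 ^ 6 from hk, hW, hm] at hmod'
    have hm' : m = 6 := by
      interval_cases m <;> first | rfl | exact absurd hmod' (by decide)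
    have hWU' : W = U := AddSubgroup.eq_of_le_of_card_ge hWU (by rw [hm, hk, hm'])
    let L : Subgroup K :=
      { carrier := {m | m ∈ M ∧ ∀ w ∈ U, φ m w = w}
        one_mem' := ⟨M.one_mem, fun w _ => hone w⟩
        mul_mem' := fun {a b} ha hb => ⟨M.mul_mem ha.1 hb.1, fun w hw => by rw [hmul, hb.2 w hw, ha.2 w hw]⟩
        inv_mem' := fun {a} ha => ⟨M.inv_mem ha.1, fun w hw => by
          nth_rewrite 1 [← ha.2 w hw]
          rw [← hmul, inv_mul_cancel, hone]⟩ }
    have hpL : p ∈ L := hM L (fun m hm => hm.1) (fun m hm l hl =>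
      ⟨M.mul_mem (M.mul_mem hm hl.1) (M.inv_mem hm), fun w hw => by
        rw [hmul, hmul, hl.2 _ (hUM _ (M.inv_mem hm) w hw), ← hmul, mul_inv_cancel, hone]⟩)
      ⟨hgM, fun w hw => (show w ∈ W from hWU' ▸ hw).2⟩
    refine hUne ((AddSubgroup.eq_bot_iff_forall _).2 fun w hw => ?_)
    have h2 := hw
    rw [hU, mem_kerOnePlus, hpL.2 w hw, hpL.2 w hw, two, zero_add] at h2
    exact h2
  · intro w hw
    have hUtop : U = ⊤ := AddSubgroup.eq_top_of_card_eq U (by rw [hk, card])
    have h2 : w ∈ U := hUtop ▸ AddSubgroup.mem_top w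
    rw [hU, mem_kerOnePlus, hw, hw, two, zero_add] at h2
    exact h2

end CfsgLib.Spor.JFourType.FromCover
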