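import Cfsg.Agent.Lib.Spor.JFourType.FromCover.Cover
import Cfsg.Agent.Lib.Spor.JFourType.FromCover.Space
import Cfsg.Agent.Lib.Spor.LargeFischer.Quad
import Cfsg.Agent.Lib.Coprime.Action
import Cfsg.Prelude.Def_JankoFourType
import Cfsg.Prelude.Def_Sporadic

/-!
# A centralizer with the perfect triple cover of the Mathieu group of degree 22 above an extraspecial core

Such a centralizer satisfies the conditions of Janko-four type.
-/

set_option autoImplicit false
set_option linter.style.haveILetI false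
set_option maxHeartbeats 1600000

namespace CfsgLib.Spor.JFourType.FromCover

open Cfsg Subgroup
open scoped commutatorElement

universe u

/-- Commutators of preimages map onto the commutator of the images. -/
theorem map_perfect {A B : Type*} [Group A] [Group B] (f : A →* B) (S T : Subgroup A) (h : S ≤ ⁅S, S⁆ ⊔ T)
    (hT : T.map f = ⊥) : ⁅S.map f, S.map f⁆ = S.map f := by
  refine le_antisymm (commutator_le_self _) ?_
  calc S.map f ≤ (⁅S, S⁆ ⊔ T).map f := map_mono h
    _ = ⁅S, S⁆.map f := by rw [Subgroup.map_sup, hT, sup_bot_eq]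
    _ = _ := map_commutator _ _ _

theorem isOfJankoFourTypeAt_of_cover {G : Type u} [Group G] [Finite G] (t : G) (ht : orderOf t = 2)
    (Q N M : Subgroup ↥(centralizer ({t} : Set G))) [Q.Normal] [N.Normal] [M.Normal] (hQN : Q ≤ N) (hNM : N ≤ M)
    (hM : M.index = 2) (hQ : Cfsg.IsExtraspecial 2 Q) (hcard : Nat.card Q = 2 ^ 13)
    (hN : Nat.card N = 3 * Nat.card Q) (hcent : ⁅M, N⁆ ≤ Q) (hperf : M ≤ ⁅M, M⁆ ⊔ Q)
    (h2c : centralizer (Q : Set ↥(centralizer ({t} : Set G))) ≤ Q)
    (hout : ∀ c : ↥(centralizer ({t} : Set G)), (∀ m ∈ M, c * m * c⁻¹ * m⁻¹ ∈ N) → c ∈ M)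
    (hM22 : Cfsg.Spor.IsoM22 (M ⧸ N.subgroupOf M)) :
    Cfsg.IsOfJankoFourTypeAt t := by
  classical
  haveI : Fact (Nat.Prime 2) := ⟨Nat.prime_two⟩
  haveI : Fact (Nat.Prime 3) := ⟨Nat.prime_three⟩
  set C := ↥(centralizer ({t} : Set G)) with hC
  obtain ⟨iso22⟩ := hM22
  -- the quotient by `N`
  let q := QuotientGroup.mk' N
  let M2 : Subgroup (C ⧸ N) := M.map q
  haveI : M2.Normal := Subgroup.Normal.map inferInstance _ (QuotientGroup.mk'_surjective N)
  have hrange : (q.comp M.subtype).range = M2 := by rw [MonoidHom.range_comp, range_subtype]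
  have hkerM : (q.comp M.subtype).ker = N.subgroupOf M := by
    rw [← MonoidHom.comap_ker, QuotientGroup.ker_mk']; rfl
  let eM : ↥M2 ≃* ↥Cfsg.Spor.M22 :=
    ((MulEquiv.subgroupCongr hrange).symm.trans ((QuotientGroup.quotientKerEquivRange (q.comp M.subtype)).symm.trans
      (QuotientGroup.quotientMulEquivOfEq hkerM))).trans iso22
  have hsimp : IsSimpleGroup ↥M2 := haveI := isSimpleGroup_M22'; eM.isSimpleGroup
  have hM2center : center ↥M2 = ⊥ := by
    haveI := hsimp
    refine ((inferInstance : (center ↥M2).Normal).eq_bot_or_eq_top).resolve_right fun h => ?_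
    have h1 : center ↥J22 = ⊤ := by
      rw [eq_top_iff]
      intro s _
      refine mem_center_iff.2 fun r => ?_
      have := mem_center_iff.1 (show (eM.symm (isoJ22 s)) ∈ center ↥M2 from h ▸ mem_top _) (eM.symm (isoJ22 r))
      rw [← map_mul, ← map_mul, ← map_mul, ← map_mul] at this
      exact isoJ22.injective (eM.symm.injective this)
    rw [center_J22] at h1
    haveI := simple_J22
    exact bot_ne_top h1
  let ψ : C ⧸ N →* MulAut ↥M2 := MulAut.conjNormal
  have hψ : Function.Injective ψ := by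
    refine (injective_iff_map_eq_one ψ).2 fun k hk => ?_
    obtain ⟨c, rfl⟩ := QuotientGroup.mk_surjective k
    have hfix : ∀ m ∈ M, q c * q m * (q c)⁻¹ = q m := fun m hm => by
      have := congrArg Subtype.val (DFunLike.congr_fun hk ⟨q m, mem_map_of_mem q hm⟩)
      simpa [ψ, q] using this
    have hcM : c ∈ M := hout c fun m hm => by
      rw [← QuotientGroup.eq_one_iff (N := N)]
      show q (c * m * c⁻¹ * m⁻¹) = 1
      rw [map_mul, map_mul, map_mul, map_inv, map_inv, hfix m hm, mul_inv_cancel]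
    have hz : (⟨q c, mem_map_of_mem q hcM⟩ : ↥M2) ∈ center ↥M2 := by
      refine mem_center_iff.2 fun m => Subtype.ext ?_
      obtain ⟨m', hm', e⟩ := m.2
      show (m : C ⧸ N) * q c = q c * (m : C ⧸ N)
      rw [← e]
      exact (mul_inv_eq_iff_eq_mul.1 (hfix m' hm')).symm
    rw [hM2center, mem_bot] at hz
    exact congrArg Subtype.val hz
  have hM2idx : M2.index = 2 := by
    rw [index_map, QuotientGroup.ker_mk', sup_eq_left.2 hNM, hM, MonoidHom.range_eq_top.2 (QuotientGroup.mk'_surjective N),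
      index_top, mul_one]
  have hcardM2 : Nat.card ↥M2 = 443520 := by rw [Nat.card_congr eM.toEquiv, OuterAut.card_M22]
  have hcardCN : Nat.card (C ⧸ N) = 887040 := by rw [← M2.card_mul_index, hM2idx, hcardM2]
  have hcardA : Nat.card (MulAut ↥Cfsg.Spor.M22) = 887040 := by
    rw [Nat.card_congr autM22Equiv.toEquiv, card_Gam]
  let isoA : C ⧸ N ≃* MulAut ↥Cfsg.Spor.M22 := (MulEquiv.ofBijective ψ ((Nat.bijective_iff_injective_and_card _).2
    ⟨hψ, by rw [hcardCN, Nat.card_congr (MulAut.congr eM).toEquiv, hcardA]⟩)).trans (MulAut.congr eM)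
  let isoG : C ⧸ N ≃* ↥Gam := isoA.trans autM22Equiv
  -- the quotient by `Q`
  let π : C ⧸ Q →* ↥Gam := isoG.toMonoidHom.comp (QuotientGroup.map Q N (MonoidHom.id C) (by rw [comap_id]; exact hQN))
  have hπ : Function.Surjective π := fun a => by
    obtain ⟨c, hc⟩ := QuotientGroup.mk_surjective (isoG.symm a)
    exact ⟨(c : C ⧸ Q), by
      show isoG (c : C ⧸ N) = a
      rw [hc, MulEquiv.apply_symm_apply]⟩
  have hπker : π.ker = N.map (QuotientGroup.mk' Q) := by
    ext k
    obtain ⟨c, rfl⟩ := QuotientGroup.mk_surjective k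
    rw [MonoidHom.mem_ker]
    change isoG (c : C ⧸ N) = 1 ↔ _
    rw [isoG.map_eq_one_iff, QuotientGroup.eq_one_iff]
    constructor
    · exact fun h => mem_map_of_mem (QuotientGroup.mk' Q) h
    · rintro ⟨n, hn, e⟩
      rw [show c = n * (n⁻¹ * c) by group]
      exact N.mul_mem hn (hQN (QuotientGroup.eq.1 e))
  have hkercard : Nat.card ↥π.ker = 3 := by
    have h1 := Nat.card_congr (QuotientGroup.quotientKerEquivRange ((QuotientGroup.mk' Q).comp N.subtype)).toEquiv
    rw [MonoidHom.range_comp, range_subtype, ← hπker] at h1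
    have h2 : ((QuotientGroup.mk' Q).comp N.subtype).ker = Q.subgroupOf N := by
      rw [← MonoidHom.comap_ker, QuotientGroup.ker_mk']; rfl
    rw [h2, ← index_eq_card, ← relIndex] at h1
    rw [← h1]
    have h3 := relIndex_mul_index hQN
    have h4 := Q.card_mul_index
    have h5 := N.card_mul_index
    rw [← h4, hN, mul_comm 3, mul_assoc] at h5
    have h6 := Nat.eq_of_mul_eq_mul_left (by rw [hcard]; norm_num) h5
    rw [← h6] at h3
    exact Nat.eq_of_mul_eq_mul_right (Nat.pos_of_ne_zero index_ne_zero_of_finite) h3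
  let M1 : Subgroup (C ⧸ Q) := M.map (QuotientGroup.mk' Q)
  have hQbot : Q.map (QuotientGroup.mk' Q) = ⊥ := by rw [Subgroup.map_eq_bot_iff, QuotientGroup.ker_mk']
  have hperf1 : ⁅M1, M1⁆ = M1 := map_perfect _ M Q hperf hQbot
  have hc1 : ∀ m ∈ M1, ∀ k ∈ π.ker, m * k = k * m := by
    rintro _ ⟨m, hm, rfl⟩ k hk
    rw [hπker] at hk
    obtain ⟨n, hn, rfl⟩ := hk
    have : (QuotientGroup.mk' Q) ⁅m, n⁆ = 1 := (QuotientGroup.eq_one_iff _).2 (hcent (commutator_mem_commutator hm hn))
    rw [map_commutatorElement, commutatorElement_eq_one_iff_mul_comm] at this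
    exact this
  have hM1 : M1 = J22.comap π := by
    have hle : M1 ≤ J22.comap π := by
      nth_rewrite 1 [← hperf1]
      rw [commutator_le]
      intro a _ b _
      rw [mem_comap, map_commutatorElement, commutatorElement_def]
      simp only [mul_mem_iff_of_index_two J22_index, inv_mem_iff]
      tauto
    refine eq_of_le_of_card_ge hle (le_of_eq ?_)
    have h1 := (J22.comap π).card_mul_index
    have h2 := M1.card_mul_index
    rw [index_comap_of_surjective _ hπ, J22_index] at h1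
    rw [index_map, QuotientGroup.ker_mk', sup_eq_left.2 (hQN.trans hNM), hM,
      MonoidHom.range_eq_top.2 (QuotientGroup.mk'_surjective Q), index_top, mul_one] at h2
    omega
  obtain ⟨p, x, y, g, d, hp, hp1, hp3, hxM, hyM, hgM, hx3, hyx, hg, hd, hL⟩ :=
    cover_elements M1 π hπ hkercard hM1 hc1 hperf1
  -- the core
  have hQcore : Cfsg.pCore 2 C = Q := by
    haveI := CfsgLib.Coprime.pCore_normal' (G := C) 2
    refine le_antisymm ?_ (le_sSup ⟨inferInstance, IsPGroup.of_card hcard⟩)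
    have hpg := CfsgLib.Coprime.pCore_isPGroup (G := C) 2
    have hO : Cfsg.pCore 2 C ≤ N := by
      have hpm : IsPGroup 2 ↥(((Cfsg.pCore 2 C).map q).subgroupOf M2) :=
        (hpg.map q).comap_of_injective M2.subtype M2.subtype_injective
      haveI : ((Cfsg.pCore 2 C).map q).Normal := Subgroup.Normal.map inferInstance _ (QuotientGroup.mk'_surjective N)
      haveI := hsimp
      rcases (inferInstance : (((Cfsg.pCore 2 C).map q).subgroupOf M2).Normal).eq_bot_or_eq_top with h | h
      · intro c hc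
        rw [subgroupOf_eq_bot, disjoint_iff] at h
        have hk : ψ (q c) = 1 := by
          refine MulEquiv.ext fun m => Subtype.ext ?_
          show q c * (m : C ⧸ N) * (q c)⁻¹ = m
          rw [← commutatorElement_eq_one_iff_mul_comm.trans mul_inv_eq_iff_eq_mul.symm, ← mem_bot, ← h]
          refine ⟨?_, ?_⟩
          · rw [show ⁅q c, (m : C ⧸ N)⁆ = q c * ((m : C ⧸ N) * (q c)⁻¹ * (m : C ⧸ N)⁻¹) by
              rw [commutatorElement_def]; group]
            have hX : q c ∈ (Cfsg.pCore 2 C).map q := ⟨c, hc, rfl⟩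
            exact Subgroup.mul_mem _ hX (Normal.conj_mem inferInstance _ (Subgroup.inv_mem _ hX) _)
          · exact Subgroup.mul_mem M2 (Normal.conj_mem inferInstance _ m.2 _) (Subgroup.inv_mem M2 m.2)
        exact (QuotientGroup.eq_one_iff c).1 (hψ (hk.trans ψ.map_one.symm))
      · exfalso
        rw [h] at hpm
        obtain ⟨k, hk⟩ := IsPGroup.iff_card.1 hpm
        rw [card_top, hcardM2] at hk
        have h7 : 7 ∣ 2 ^ k := by rw [← hk]; norm_num
        have := (Nat.prime_seven.dvd_of_dvd_pow h7)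
        norm_num at this
    have h1 : IsPGroup 2 ↥((Cfsg.pCore 2 C).map (QuotientGroup.mk' Q)) := hpg.map _
    have h2 : (Cfsg.pCore 2 C).map (QuotientGroup.mk' Q) ≤ π.ker := hπker ▸ map_mono hO
    obtain ⟨k, hk⟩ := IsPGroup.iff_card.1 h1
    have h3 := card_dvd_of_le h2
    rw [hk, hkercard] at h3
    have hk0 : k = 0 := by
      by_contra hk0
      have := (Nat.prime_dvd_prime_iff_eq Nat.prime_two Nat.prime_three).1 ((dvd_pow_self 2 hk0).trans h3)
      omega
    rw [hk0, pow_zero, card_eq_one, Subgroup.map_eq_bot_iff, QuotientGroup.ker_mk'] at hk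
    exact hk
  -- the space
  have htC : t ∈ centralizer ({t} : Set G) := mem_centralizer_singleton_iff.2 rfl
  set τ : C := ⟨t, htC⟩ with hτ
  have hτc : ∀ c : C, c * τ = τ * c := fun c => Subtype.ext (mem_centralizer_singleton_iff.1 c.2)
  have hτQ : τ ∈ Q := h2c (mem_centralizer_iff.2 fun c _ => hτc c)
  have hτ1 : τ ≠ 1 := fun e => by
    have : t = 1 := congrArg Subtype.val e
    simp [this] at ht
  obtain ⟨hsc, -⟩ := CfsgLib.PGroup.smallCenter_of_extraspecial hQ
  have hcenQ : ∀ s : ↥Q, s ∈ center ↥Q → (s : C) = 1 ∨ (s : C) = τ := by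
    intro s hs
    by_contra hcon
    push Not at hcon
    have hτm : (⟨τ, hτQ⟩ : ↥Q) ∈ center ↥Q := mem_center_iff.2 fun r => Subtype.ext (hτc r)
    have h3 : ({1, ⟨τ, hτQ⟩, s} : Finset ↥Q).card = 3 := Finset.card_eq_three.2 ⟨_, _, _,
      fun e => hτ1 (congrArg Subtype.val e).symm, fun e => hcon.1 (congrArg Subtype.val e).symm,
      fun e => hcon.2 (congrArg Subtype.val e).symm, rfl⟩
    have hle := Finset.card_le_card (s := ({1, ⟨τ, hτQ⟩, s} : Finset ↥Q))
      (t := (center ↥Q : Set ↥Q).toFinite.toFinset) (by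
        intro r hr
        rw [Set.Finite.mem_toFinset]
        simp only [Finset.mem_insert, Finset.mem_singleton] at hr
        rcases hr with rfl | rfl | rfl
        exacts [one_mem _, hτm, hs])
    rw [h3, ← Set.ncard_eq_toFinset_card _ (center ↥Q : Set ↥Q).toFinite, ← Nat.card_coe_set_eq,
      show Nat.card ↥(center ↥Q : Set ↥Q) = 2 from hsc.card_center] at hle
    omega
  have hF : Cfsg.generalizedFittingSubgroup C = Q := by
    rw [← hQcore]
    refine CfsgLib.CharPLoc.fStar_eq_pCore_iff.2 fun r hr hrc => ?_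
    rw [hQcore] at hrc
    obtain ⟨k, hk⟩ := IsPGroup.iff_orderOf.1 (IsPGroup.of_card hcard) ⟨r, h2c hrc⟩
    rw [← Subgroup.orderOf_coe] at hk
    change orderOf r = 2 ^ k at hk
    rw [← orderOf_eq_one_iff]
    rcases Nat.eq_zero_or_pos k with h0 | h0
    · rw [hk, h0, pow_zero]
    · rw [hk, Nat.coprime_pow_left_iff h0] at hr
      norm_num at hr
  obtain ⟨V, instV, ⟨qs⟩⟩ := CfsgLib.Spor.LargeFischer.exists_quadSpace Q hF hQ
  haveI : Finite V := Finite.of_surjective qs.p qs.surj
  let φ : C ⧸ Q →* AddMonoid.End V := QuotientGroup.lift Q qs.φ fun c hc => (qs.kerφ c).2 hc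
  have hcardV : Nat.card V = 2 ^ 12 := by
    have := qs.card
    rw [hcard] at this
    omega
  have hfix := fixed_eq_zero qs.two hcardV φ (fun k hk => by
    obtain ⟨c, rfl⟩ := QuotientGroup.mk_surjective k
    exact (QuotientGroup.eq_one_iff c).2 ((qs.kerφ c).1 hk)) M1 (hM1 ▸ mem_comap.2 (by
      rw [MonoidHom.mem_ker.1 hp]; exact one_mem _)) hxM hyM hgM hp3 hp1 hx3 (fun m hm => hc1 m hm p hp) hyx hg hL
  -- the subgroup of order three
  have h3N : 3 ∣ Nat.card ↥N := ⟨Nat.card ↥Q, hN⟩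
  obtain ⟨⟨s, hsN⟩, hs⟩ := exists_prime_orderOf_dvd_card' (G := ↥N) 3 h3N
  rw [← Subgroup.orderOf_coe] at hs
  change orderOf s = 3 at hs
  have hs3 : s ^ 3 = 1 := by rw [← hs, pow_orderOf_eq_one]
  have hsQ : s ∉ Q := fun h => by
    have h1 := orderOf_dvd_natCard (⟨s, h⟩ : ↥Q)
    rw [← Subgroup.orderOf_coe, hcard] at h1
    change orderOf s ∣ _ at h1
    rw [hs] at h1
    norm_num at h1
  set σ : C ⧸ Q := (s : C ⧸ Q) with hσ
  have hσ1 : σ ≠ 1 := fun h => hsQ ((QuotientGroup.eq_one_iff s).1 h)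
  have hσker : σ ∈ π.ker := hπker ▸ mem_map_of_mem (QuotientGroup.mk' Q) hsN
  have hzσ : zpowers σ = π.ker := eq_of_le_of_card_ge (zpowers_le.2 hσker) (by
    rw [hkercard, Nat.card_zpowers, orderOf_eq_prime (show σ ^ 3 = 1 by rw [hσ, ← QuotientGroup.mk_pow, hs3]; rfl) hσ1])
  have hpz : p ∈ zpowers σ := hzσ ▸ hp
  have hcQ : ∀ r ∈ Q, r * s = s * r → r = 1 ∨ r = τ := fun r hr hrs => by
    refine hcenQ ⟨r, hr⟩ ((qs.ker _).1 (hfix _ ?_))
    have hσfix : φ σ (qs.p ⟨r, hr⟩) = qs.p ⟨r, hr⟩ :=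
      qs.compat s ⟨r, hr⟩ ⟨r, hr⟩ (by show r = s * r * s⁻¹; rw [← hrs, mul_inv_cancel_right])
    obtain ⟨n, hn⟩ := (mem_zpowers_iff_mem_range_orderOf.1 hpz |> Finset.mem_image.1)
    rw [← hn.2]
    clear hn
    induction n with
    | zero => rw [pow_zero, map_one]; rfl
    | succ n ih => rw [pow_succ, map_mul]; show φ (σ ^ n) (φ σ _) = _; rw [hσfix, ih]
  let P0 : Subgroup C := zpowers s
  have hP0N : P0 ≤ N := zpowers_le.2 hsN
  have hP0card : Nat.card ↥P0 = 3 := by rw [Nat.card_zpowers, hs]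
  let PS : Sylow 3 ↥N := Sylow.ofCard (P0.subgroupOf N) (by
    rw [Nat.card_congr (subgroupOfEquivOfLe hP0N).toEquiv, hP0card, hN, hcard,
      Nat.factorization_mul (by norm_num) (by norm_num), Nat.Prime.factorization Nat.prime_three, Finsupp.add_apply,
      Finsupp.single_eq_same, Nat.factorization_eq_zero_of_not_dvd (show ¬ 3 ∣ 2 ^ 13 by norm_num)]
    rfl)
  have hfrat := Sylow.normalizer_sup_eq_top PS
  rw [show (PS : Subgroup ↥N) = P0.subgroupOf N from rfl, subgroupOf_map_subtype, inf_eq_left.2 hP0N] at hfrat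
  have hCP : ∀ c : C, c ∈ normalizer (P0 : Set C) → c * s * c⁻¹ * s⁻¹ ∈ Q → c * s = s * c := fun c hc hQ' => by
    have hmem : c * s * c⁻¹ * s⁻¹ ∈ P0 :=
      mul_mem ((mem_normalizer_iff.1 hc s).1 (mem_zpowers s)) (inv_mem (mem_zpowers s))
    have hd3 : orderOf (c * s * c⁻¹ * s⁻¹) ∣ 3 := by
      have := orderOf_dvd_natCard (⟨_, hmem⟩ : ↥P0)
      rwa [← Subgroup.orderOf_coe, hP0card] at this
    have hd2 : orderOf (c * s * c⁻¹ * s⁻¹) ∣ 2 ^ 13 := by
      have := orderOf_dvd_natCard (⟨_, hQ'⟩ : ↥Q)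
      rwa [← Subgroup.orderOf_coe, hcard] at this
    have h1 := Nat.eq_one_of_dvd_coprimes (by norm_num : Nat.Coprime 3 (2 ^ 13)) hd3 hd2
    rw [orderOf_eq_one_iff, mul_inv_eq_one, mul_inv_eq_iff_eq_mul] at h1
    exact h1
  let C1 : Subgroup C := centralizer (P0 : Set C)
  have hmemC1 : ∀ c : C, c * s = s * c → c ∈ C1 := fun c hc => mem_centralizer_iff.2 (by
    rintro _ ⟨n, rfl⟩
    exact ((show Commute c s from hc).zpow_right n).eq.symm)
  have hnot : normalizer (P0 : Set C) ≠ C1 := fun h => by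
    have hall : ∀ c : C, (c : C ⧸ Q) * σ = σ * c := fun c => by
      have hc : c ∈ normalizer (P0 : Set C) ⊔ N := hfrat ▸ mem_top c
      rw [sup_comm] at hc
      obtain ⟨n, hn, k, hk, rfl⟩ := mem_sup_of_normal_left.1 hc
      have h1 : (k : C ⧸ Q) * σ = σ * k := by
        rw [h] at hk
        rw [hσ, ← QuotientGroup.mk_mul, ← QuotientGroup.mk_mul, (mem_centralizer_iff.1 hk s (mem_zpowers s))]
      have h2 : (n : C ⧸ Q) * σ = σ * n := hc1 _ (mem_map_of_mem _ (hNM hn)) σ hσker
      rw [QuotientGroup.mk_mul, mul_assoc, h1, ← mul_assoc, h2, mul_assoc]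
    obtain ⟨n, hn⟩ := hpz
    obtain ⟨d0, rfl⟩ := QuotientGroup.mk_surjective d
    rw [← hn, ((show Commute (d0 : C ⧸ Q) σ from hall d0).zpow_right n).eq, mul_inv_cancel_right,
      eq_inv_iff_mul_eq_one, ← pow_two, show σ ^ n = p from hn] at hd
    rw [pow_succ, hd, one_mul] at hp3
    exact hp1 hp3
  have hMle : M ≤ C1 ⊔ Q := fun m hm => by
    have hc : m ∈ N ⊔ normalizer (P0 : Set C) := by rw [sup_comm, hfrat]; exact mem_top m
    obtain ⟨n, hn, k, hk, rfl⟩ := mem_sup_of_normal_left.1 hc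
    have hkM : k ∈ M := (Subgroup.mul_mem_cancel_left M (hNM hn)).1 hm
    have hkC : k ∈ C1 := hmemC1 k (hCP k hk (by
      rw [← QuotientGroup.eq_one_iff (N := Q)]
      show (QuotientGroup.mk' Q) k * σ * ((QuotientGroup.mk' Q) k)⁻¹ * σ⁻¹ = 1
      rw [hc1 _ (mem_map_of_mem _ hkM) σ hσker, mul_inv_cancel_right, mul_inv_cancel]))
    refine mul_mem ?_ (mem_sup_left hkC)
    have hnker : (n : C ⧸ Q) ∈ zpowers σ := hzσ.symm ▸ hπker.symm ▸ mem_map_of_mem (QuotientGroup.mk' Q) hn
    obtain ⟨j, hj⟩ := hnker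
    rw [show n = s ^ j * ((s ^ j)⁻¹ * n) by group]
    exact mul_mem (mem_sup_left (zpow_mem (hmemC1 s rfl) j))
      (mem_sup_right (QuotientGroup.eq.1 (by rw [QuotientGroup.mk_zpow]; exact hj)))
  have hsD : s ∈ ⁅C1, C1⁆ := by
    have h1 : σ ∈ ⁅C1, C1⁆.map (QuotientGroup.mk' Q) := by
      have h2 : M1 ≤ C1.map (QuotientGroup.mk' Q) := by
        refine (map_mono hMle).trans ?_
        rw [Subgroup.map_sup, hQbot, sup_bot_eq]
      rw [map_commutator]
      refine commutator_mono h2 h2 ?_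
      rw [hperf1]
      exact mem_map_of_mem _ (hNM hsN)
    obtain ⟨e, he, he'⟩ := h1
    have heC : e * s = s * e := (mem_centralizer_iff.1 (commutator_le_self C1 he) s (mem_zpowers s)).symm
    rcases hcQ (e⁻¹ * s) (QuotientGroup.eq.1 he') (by
      rw [← mul_assoc s e⁻¹ s, ← ((show Commute e s from heC).inv_left).eq]) with h | h
    · rw [inv_mul_eq_one.1 h] at he; exact he
    · have hs' : s = e * τ := by rw [← h, mul_inv_cancel_left]
      have h4 : s = e ^ 4 := by
        calc s = s ^ 4 := by rw [pow_succ, hs3, one_mul]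
          _ = (e * τ) ^ 4 := by rw [hs']
          _ = e ^ 4 * τ ^ 4 := (show Commute e τ from hτc e).mul_pow 4
          _ = e ^ 4 := by
            rw [show τ ^ 4 = (τ ^ 2) ^ 2 by rw [← pow_mul], show τ ^ 2 = 1 from Subtype.ext (by
              show t ^ 2 = 1; rw [← ht, pow_orderOf_eq_one]), one_pow, mul_one]
      rw [h4]
      exact pow_mem he 4
  -- back in the ambient group
  refine ⟨P0.map (centralizer ({t} : Set G)).subtype, ht, ?_, ?_, ?_, ⟨N.map (centralizer ({t} : Set G)).subtype,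
    ?_, map_subtype_le _, ?_, ?_, ?_, ?_⟩, ?_, ?_, ?_, ?_⟩
  · rw [twoCoreOfCentralizer, hQcore]
    exact CfsgLib.Spor.Affine.isExtraspecial_congr (equivMapOfInjective Q _ (subtype_injective _)) hQ
  · rw [twoCoreOfCentralizer, hQcore, card_map_of_injective (subtype_injective _), hcard]
  · rintro r ⟨hr, hrc⟩
    rw [twoCoreOfCentralizer, hQcore]
    exact ⟨⟨r, hr⟩, h2c (mem_centralizer_iff.2 fun e he => Subtype.ext
      (mem_centralizer_iff.1 hrc e (by rw [twoCoreOfCentralizer, hQcore]; exact ⟨e, he, rfl⟩))), rfl⟩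
  · rw [twoCoreOfCentralizer, hQcore]; exact map_mono hQN
  · intro r hr
    rw [mem_normalizer_iff]
    intro e
    constructor
    · rintro ⟨n, hn, rfl⟩
      exact ⟨⟨r, hr⟩ * n * ⟨r, hr⟩⁻¹, Normal.conj_mem inferInstance n hn _, rfl⟩
    · rintro ⟨n, hn, e'⟩
      refine ⟨⟨r, hr⟩⁻¹ * n * ⟨r, hr⟩, Normal.conj_mem' inferInstance n hn _, ?_⟩
      show r⁻¹ * (n : G) * r = e
      rw [show (n : G) = r * e * r⁻¹ from e']
      group
  · rw [card_map_of_injective (subtype_injective _), twoCoreOfCentralizer, hQcore,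
      card_map_of_injective (subtype_injective _), hN]
  · have e : (N.map (centralizer ({t} : Set G)).subtype).subgroupOf (centralizer ({t} : Set G)) = N :=
      comap_map_eq_self_of_injective (subtype_injective _) N
    haveI : ((N.map (centralizer ({t} : Set G)).subtype).subgroupOf (centralizer ({t} : Set G))).Normal := e.symm ▸ inferInstance
    exact ⟨inferInstance, ⟨(QuotientGroup.quotientMulEquivOfEq e).trans isoA⟩⟩
  · exact map_mono hP0N
  · rw [card_map_of_injective (subtype_injective _), hP0card]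
  · rw [twoCoreOfCentralizer, hQcore]
    refine le_antisymm ?_ (zpowers_le.2 ⟨⟨τ, hτQ, rfl⟩, ?_⟩)
    · rintro _ ⟨⟨r, hr, rfl⟩, hrc⟩
      rcases hcQ r hr (Subtype.ext (mem_centralizer_iff.1 hrc s ⟨s, mem_zpowers s, rfl⟩).symm) with rfl | rfl
      exacts [one_mem _, mem_zpowers _]
    · refine mem_centralizer_iff.2 ?_
      rintro _ ⟨e, -, rfl⟩
      exact congrArg Subtype.val (hτc e)
  · intro h
    refine hnot (le_antisymm (fun c hc => ?_) (centralizer_le_normalizer _))
    have hcN : (c : G) ∈ centralizer ({t} : Set G) ⊓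
        normalizer ((P0.map (centralizer ({t} : Set G)).subtype : Subgroup G) : Set G) :=
      ⟨c.2, le_normalizer_map _ ⟨c, hc, rfl⟩⟩
    rw [h] at hcN
    exact mem_centralizer_iff.2 fun e he => Subtype.ext
      (mem_centralizer_iff.1 hcN.2 e ⟨e, he, rfl⟩)
  · have hC1 : C1.map (centralizer ({t} : Set G)).subtype ≤ centralizer ({t} : Set G) ⊓
        centralizer ((P0.map (centralizer ({t} : Set G)).subtype : Subgroup G) : Set G) := by
      rintro _ ⟨c, hc, rfl⟩
      refine ⟨c.2, mem_centralizer_iff.2 ?_⟩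
      rintro _ ⟨e, he, rfl⟩
      exact congrArg Subtype.val (mem_centralizer_iff.1 hc e he)
    refine le_trans ?_ (commutator_mono hC1 hC1)
    rw [← map_commutator]
    exact map_mono (zpowers_le.2 hsD)

end CfsgLib.Spor.JFourType.FromCover
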